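import Cfsg.Agent.CosetEnum.M83.H7Data

/-! Certificate of a coset enumeration (generated data, owner: helper28). -/

set_option autoImplicit false
set_option maxRecDepth 1000000

namespace Cfsg.Agent.CosetEnum.M83H7

def ck0 : CK := .cons 32 32 0xc80240120290088044000400202100880a4022001002100880a40064012001000800080440020110148044042005200900c8084022029008804400201900010008004032001201100c802404200900210008004002001004800c806401201100c800c800405200100080040020042021010808405201900c80640320090108010808401202900480240220090108010802402202900880640220290088084004401202101480a404201901080840420190088044008403201900c8064032021008804402201100c802401200900880040220110008024012009004800400200100080040080040020010008004 ( .cons 24 24 0x80a400200100080040120090148024012009008804405201100880640120210148064042011008801080a403201900c8064032002201101080640420110148044022011000901080440320090108024012004201100880240220190011014800480240120090088004022029008808401200120090001000800400201100c80240024002000200100080840320210108084032021014804401200320010008000806403201900c8004012009014802401202101480008 ( .nil ))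

theorem part0 : chunks P L 56 ck0 0 56 = true := by decide +kernel

end Cfsg.Agent.CosetEnum.M83H7
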