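import Cfsg.Agent.CosetEnum.Step
import Cfsg.Agent.CosetEnum.M83.H6P0
import Cfsg.Agent.CosetEnum.M83.H7P0
import Cfsg.Agent.CosetEnum.M83.H8P0
import Cfsg.Agent.CosetEnum.M83.H9P0
import Cfsg.Agent.CosetEnum.M83.H9P1
import Cfsg.Agent.CosetEnum.M83.H9P2
import Cfsg.Agent.CosetEnum.M83.H9P3
import Cfsg.Agent.CosetEnum.M83.H9P4
import Cfsg.Agent.CosetEnum.M83.H9P5
import Cfsg.Agent.CosetEnum.M83.H9P6
import Cfsg.Agent.CosetEnum.M83.H9P7
import Cfsg.Agent.CosetEnum.M83.H9P8
import Cfsg.Agent.CosetEnum.M83.H9P9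
import Cfsg.Agent.CosetEnum.M83.H9P10
import Cfsg.Agent.CosetEnum.M83.H9P11
import Cfsg.Agent.CosetEnum.M83.H9P12
import Cfsg.Agent.CosetEnum.M83.H9P13
import Cfsg.Agent.CosetEnum.M83.H9P14
import Cfsg.Agent.CosetEnum.M83.H9P15
import Cfsg.Agent.CosetEnum.M83.H9P16
import Cfsg.Agent.CosetEnum.M83.H9P17
import Cfsg.Agent.CosetEnum.M83.H9P18
import Cfsg.Agent.CosetEnum.M83.H9P19
import Cfsg.Agent.CosetEnum.M83.H9P20
import Cfsg.Agent.CosetEnum.M83.H9P21
import Cfsg.Agent.CosetEnum.M83.H9P22
import Cfsg.Agent.CosetEnum.M83.H9P23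
import Cfsg.Agent.CosetEnum.M83.H9P24
import Cfsg.Agent.CosetEnum.M83.H9P25
import Cfsg.Agent.CosetEnum.M83.H9P26
import Cfsg.Agent.CosetEnum.M83.H9P27
import Cfsg.Agent.CosetEnum.M83.H9P28
import Cfsg.Agent.CosetEnum.M83.H9P29
import Cfsg.Agent.CosetEnum.M83.H9P30
import Cfsg.Agent.CosetEnum.M83.H9P31
import Cfsg.Agent.CosetEnum.M83.H9P32

/-! Certificates of coset enumerations and tables (generated, owner: helper28). -/

set_option autoImplicit false
set_option maxRecDepth 1000000

namespace Cfsg.Agent.CosetEnum.M83H6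

theorem st : staticOK 6 iv (RL.map expand) subs P L = true := by decide +kernel

theorem seg : Seg P L P.m 27 :=
  (Seg.nil).snoc part0

theorem cert : Cert 6 iv RL subs 27 := fun g H hl hrels hsubs =>
  upper g H 6 iv hl (RL.map expand) subs hrels hsubs P L rfl st seg

end Cfsg.Agent.CosetEnum.M83H6
namespace Cfsg.Agent.CosetEnum.M83H7

theorem st : staticOK 7 iv (RL.map expand) subs P L = true := by decide +kernel

theorem seg : Seg P L P.m 56 :=
  (Seg.nil).snoc part0

theorem cert : Cert 7 iv RL subs 56 := fun g H hl hrels hsubs =>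
  upper g H 7 iv hl (RL.map expand) subs hrels hsubs P L rfl st seg

end Cfsg.Agent.CosetEnum.M83H7
namespace Cfsg.Agent.CosetEnum.M83H8

theorem st : staticOK 8 iv (RL.map expand) subs P L = true := by decide +kernel

theorem seg : Seg P L P.m 240 :=
  (Seg.nil).snoc part0

theorem cert : Cert 8 iv RL subs 240 := fun g H hl hrels hsubs =>
  upper g H 8 iv hl (RL.map expand) subs hrels hsubs P L rfl st seg

end Cfsg.Agent.CosetEnum.M83H8
namespace Cfsg.Agent.CosetEnum.M83H9

theorem st : staticOK 11 iv (RL.map expand) subs P L = true := by decide +kernel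

theorem seg : Seg P L P.m 28431 :=
  (((((((((((((((((((((((((((((((((Seg.nil).snoc part0).snoc part1).snoc part2).snoc part3).snoc part4).snoc part5).snoc part6).snoc part7).snoc part8).snoc part9).snoc part10).snoc part11).snoc part12).snoc part13).snoc part14).snoc part15).snoc part16).snoc part17).snoc part18).snoc part19).snoc part20).snoc part21).snoc part22).snoc part23).snoc part24).snoc part25).snoc part26).snoc part27).snoc part28).snoc part29).snoc part30).snoc part31).snoc part32

theorem cert : Cert 11 iv RL subs 28431 := fun g H hl hrels hsubs =>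
  upper g H 11 iv hl (RL.map expand) subs hrels hsubs P L rfl st seg

end Cfsg.Agent.CosetEnum.M83H9
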