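import Cfsg.Agent.CosetEnum.M83.GData

/-! Certificate of a coset enumeration (generated data, owner: helper28). -/

set_option autoImplicit false
set_option maxRecDepth 1000000

namespace Cfsg.Agent.CosetEnum.M83G

def ck1 : CK := .cons 32 5 0xaa00de34055006f0a00439600fff59801ffe855006eaa2200ddf44401bbaa2003ab5020a200427d00c8004022011008804401fe50003300408d22006e7a8800dc54002019004802408200900c8004012006200100c806403200900c8024012039004855007eda0cc01fb68220072fa019008801fd680844401fb68064002011008804402200fe68066007b2a2200db94088036dd00080640120090208024021110005900cb3003ac500c804400da946580368d0001f8d01a48801b46aa803695 ( .cons 32 7 0x100c8044022011008806400c4006600e15408803855440070ba11001c2a9100388d6600773a6600e13404203101880c4002031000024012021018808404201901080001201900c8004012009020802401200100096600731b9600e0741980381d19600e0351001c0aa200380d00c80040220110088044004406201100190008044022011008800400202a803975cb00784a4400e554033006f9a11001bf29980412d44006faa15401be680aa00df14032001008804402201100823400208d00411a0082340088037a5011001bd2a2003795 ( .cons 32 1 0x660072ca04401cb284400729a15401ca682200723a0410049100395d0388044cc01c8a80c44401c8a86600727a32c020f285500720acc00e494198038dd008495960100b4110039c5550075ba001a4cc01cf28cb007b2a8800eb54658038ad008314aa00e3740cb00777a6600eef51001c52e5803bcd2200779a32c02022888038d5008800481100719a019000804402201100880440008801c3ea2003e4d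 ( .cons 32 5 0x320010088044022011000001900080440220110088000000806401200902080240120022001202101880440220110088004002011004801080c4032019004806401201101880e403232c01d2e8cb00749acc00e9b465803a453300749a019803be502200e93400642a803d5d44007fda0032aa010ab465803b0500cc01d0e888041d5008998041d53300838b9600e754002200e794658039c502200e735100211a80041330084aa4400e6f4122039220084aa4400eb35980211a910039d5 ( .cons 11 11 0x100c8024012041004800006400201900480240820090088004800c8064002011008804402200004800080640120090208024002400240320010088044022011000800006400201100880440220000480008064012009020802406200900481240020190048024082009008800032019000804402201100880031000320010088044022011000100210188044022011008800400088 ( .nil )))))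

theorem part1 : chunks P L 2155 ck1 2016 29 = true := by decide +kernel

end Cfsg.Agent.CosetEnum.M83G
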