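import Cfsg.Agent.CosetEnum.Basic

/-! Certificate of a coset enumeration (generated data, owner: helper28). -/

set_option autoImplicit false
set_option maxRecDepth 1000000

namespace Cfsg.Agent.CosetEnum.M83H3

noncomputable def tab : T := .l 0 0xffffffffffffffffffffff00000000004fffffffffff00000a00004fffffffffff0000000000100000500003fffffffffff00000700000ffffffffffffffffffffff000000000010000010000200000300000000000000000000080000400000000007fffffffffff00000b00000fffffffffff00000000000000005000060000040000600000600001ffffffffffffffffffffff000000000000000010000500000200001fffffffffff0000000000600000000005000000000000000090000000000000004000000000030000000000200000000001fffffffffff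

def lw : WT := .n 2 (.n 1 (.l [3,4,3,4] []) (.l [2,1,2,1,2,1,2,1,2,1] [])) (.n 3 (.l [3,2,3,2,3,2] []) (.n 4 (.l [4,2,4,2,4,2] []) (.l [2,4,2,4] [])))

def L : LL := .cons 1 1 (.n 1 (.l [2,1,2] []) (.l [3,1,3] [])) (.e) ( .cons 2 2 (.l [3,2,3] []) (.e) ( .cons 3 3 (.l [4,3,1,4] []) (.e) ( .cons 4 4 (.e) (.e) ( .nil ))))

def iv : List (Nat × Nat) := []

def RL : List (List Nat × Nat) := [([1, 2], 5), ([2, 3], 3), ([2, 4], 3), ([1, 3], 2), ([1, 4], 2), ([3, 4, 3, 4, 1], 1), ([1, 1, 1, 1], 1), ([1, 2, 1, 2], 1), ([1, 3, 1, 3], 1), ([1, 4, 1, 4], 1), ([2, 1, 2, 1], 1), ([2, 2, 2, 2], 1), ([2, 3, 2, 3], 1), ([2, 4, 2, 4], 1), ([3, 1, 3, 1], 1), ([3, 2, 3, 2], 1), ([3, 3, 3, 3], 1), ([3, 4, 3, 4], 1), ([4, 1, 4, 1], 1), ([4, 2, 4, 2], 1), ([4, 3, 4, 3], 1), ([4, 4, 4, 4], 1)]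

def subs : List (List Nat) := []

noncomputable def P : Par := ⟨tab, 220, 1684996666696914987166688442938726917102321526408785780068975640575, 8, icG 4 iv, lw⟩

end Cfsg.Agent.CosetEnum.M83H3
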