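import Cfsg.Agent.CosetEnum.Basic

/-! Certificate of a coset enumeration (generated data, owner: helper28). -/

set_option autoImplicit false
set_option maxRecDepth 1000000

namespace Cfsg.Agent.CosetEnum.M83H6

noncomputable def tab : T := .l 0 0x630001a000000000190000620001a0000640001a0000610001a0000600001afffffffffff00005e000190000000001a00005d000190000000001800005f0001900005c00019fffffffffff000059000180000580001800005b00018000000000190000000001700005a00018fffffffffff000057000170000560001700000000015000055000170000000001800005400016fffffffffff000053000160000510001600000000014000050000160000520001600005400017fffffffffff0000000001300004f000150000000001700004e0001500004d0001500004c00014fffffffffff0000000001100004b000140000000001600004a000140000490001200004c00015fffffffffff000000000150000470001300004600013000045000130000480001300000000011fffffffffff0000000000f0000430001200004400012000042000100000490001400004100012fffffffffff0000000001400003e000110000400001100003f000110000000000f00000000013fffffffffff0000000000c00003c0000d00003d000100000420001200003b0001000003a00010fffffffffff000000000120000390000f0000380000e000000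0000c000000000110000370000ffffffffffff0000340000e0000360000e0000380000f0000000000b0000350000e0000330000efffffffffff0000000000a00003c000100000320000d0000310000d0000300000d00002f0000dfffffffffff000000000100000000000a00002e0000b0000000000f00002d0000c00002c0000cfffffffffff00002b0000b0000000000800002e0000c0000000000e00002a000090000290000bfffffffffff0000000000d0000000000c000000000080000270000a0000280000a0000260000afffffffffff0000240000900000000006000023000090000250000900002a0000b00002200007fffffffffff00001f000080000000000b0000000000a000021000080000000000600002000008fffffffffff00001d000070000000000500001c0000700001e0000700001b0000700002200009fffffffffff00001a000060000000000900001900006000000000040000000000800001800005fffffffffff000016000050000000000700001500005000000000030000170000500001800006fffffffffff000013000040000120000400001100004000000000060000140000400000000003fffffffffff00000f0000300000e0000300001000003000000000050000000000200000000004fffffffffff00000d0000200000c000020000000000100000b000020000000000300000a00002fffffffffff000000000000000090000100000000002000008000010000070000100000600001fffffffffff000000000010000050000000000400000000003000000000020000000000100000fffffffffff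

def lw : WT := .e

def L : LL := .cons 1 1 (.n 2 (.n 1 (.l [6,1,6] []) (.l [4,1,4] [])) (.n 3 (.l [3,1,3] []) (.n 4 (.l [5,1,5] []) (.l [2,1,2,1,2] [])))) (.l [] []) ( .cons 2 2 (.n 2 (.n 1 (.l [6,2,6] []) (.l [1,2,1,2,1] [])) (.n 3 (.l [3,2,3,2,3] []) (.n 4 (.l [5,2,5] []) (.l [4,2,4,2,4] [])))) (.l [] []) ( .cons 3 3 (.n 2 (.n 1 (.l [6,3,6] []) (.l [4,3,4] [])) (.n 3 (.l [5,3,5,3,5] []) (.n 4 (.l [2,3,2,3,2] []) (.l [1,3,1] [])))) (.l [] []) ( .cons 4 4 (.n 2 (.n 1 (.l [2,4,2,4,2] []) (.l [1,4,1] [])) (.n 3 (.l [3,4,3] []) (.n 4 (.l [5,4,5] []) (.l [6,4,6,4,6] [])))) (.l [] []) ( .cons 5 5 (.n 2 (.n 1 (.l [6,5,6] []) (.l [4,5,4] [])) (.n 3 (.l [2,5,2] []) (.n 4 (.l [1,5,1] []) (.l [3,5,3,5,3] [])))) (.l [] []) ( .cons 6 6 (.n 2 (.n 1 (.l [4,6,4,6,4] []) (.l [2,6,2] [])) (.n 3 (.l [1,6,1] []) (.n 4 (.l [3,6,3] []) (.l [5,6,5] [])))) (.e) ( .nil ))))))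

def iv : List (Nat × Nat) := []

def RL : List (List Nat × Nat) := [([1, 2], 3), ([1, 3], 2), ([1, 4], 2), ([1, 5], 2), ([1, 6], 2), ([2, 3], 3), ([2, 4], 3), ([2, 5], 2), ([2, 6], 2), ([3, 4], 2), ([3, 5], 3), ([3, 6], 2), ([4, 5], 2), ([4, 6], 3), ([5, 6], 2)]

def subs : List (List Nat) := [[1], [2], [3], [4], [5]]

noncomputable def P : Par := ⟨tab, 308, 521481209941628438084722096232800809229175908778479680162851955034721612739414196782949728255, 27, icG 6 iv, lw⟩

end Cfsg.Agent.CosetEnum.M83H6
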