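import Cfsg.Agent.CosetEnum.M83.K100Data

/-! Base and transversals (generated data, owner: helper28). -/

set_option autoImplicit false
set_option maxRecDepth 1000000

namespace Cfsg.Agent.CosetEnum.M83K100C

def ls : List (Nat × List Nat) := [(0, [0x0, 0x1, 0x2, 0x7, 0x71, 0x81, 0x32, 0x37, 0x67, 0x371, 0x671, 0x681, 0x432, 0x137, 0x637, 0x567, 0x767, 0x868, 0x6371, 0x5671, 0x5432, 0x6137, 0x5637, 0x7637, 0x8368, 0x286b, 0xb567, 0x5653b, 0x7653b, 0x6813b, 0x52367, 0x43568, 0x28368, 0xb3568, 0x2736b, 0x4736b, 0x6736b, 0x68368, 0x3b568, 0x435627, 0x271367, 0x171367, 0x765838, 0x817638, 0x647638, 0x568368, 0x317638, 0x327638, 0x627638, 0x23b567, 0xb67, 0xb671, 0xb867, 0xb767, 0x34b6b, 0x54b6b, 0x18b68, 0x3b867, 0x38b68, 0xb653b, 0x1b3673, 0x53b671, 0x73b671, 0x65b671, 0x34b86b, 0x13b867, 0x23b867, 0x138b68, 0x23b767, 0xb35627, 0x5b3673, 0x56b3676,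 0xb27638, 0x6534b6b, 0x6734b6b, 0x134b86b, 0x432b867, 0xb675637, 0xb37567, 0x1b27638, 0xb28623b, 0x65b653b, 0x67138b68, 0x6b27638, 0x7653b671, 0x6b384768, 0x1b37567, 0xb865838, 0x5b265838, 0x6b28623b, 0x56b37567, 0x43b65838, 0x86b2736b, 0x3b65838, 0x2b65838, 0x34b65838, 0xb65838, 0x1b65838, 0x81b65838, 0x3b2b65838]), (1, [0x0, 0x23, 0x282b, 0x8b, 0xb8, 0x31, 0x3b2, 0x6b2, 0x32b3, 0x16b3, 0x63b8, 0x2431, 0x23b7, 0x6b231, 0x1656b3, 0x56b8, 0x1456b3, 0x63b7, 0x56b7, 0x5431, 0x263b2, 0x536b2, 0x3456b7, 0xb8263b2, 0x456b2, 0x8b568b, 0x5346b7, 0x654131, 0x25638b, 0x45643b2, 0x231456b3, 0x343516b3, 0x3b456b3, 0x3456b8, 0x4536b7, 0x2763761b, 0x1836726b, 0x8b536b2, 0x34536b2, 0x18676348, 0x23456b2, 0x86856383, 0x2b6b3, 0x1b6b7, 0xb86b2, 0x8b6b2, 0x2b136b2, 0x15b68b, 0x276b672, 0x8b638b, 0x3b256b7, 0x231b68b, 0x3415b68b, 0x8364b367, 0x651b6b7, 0x34b86b2,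 0x43b86b2, 0x23b86b2, 0x1836b268, 0x23b76b2, 0x438b6b2, 0x5b136b2, 0x8b25638b, 0x3615b16b2, 0x1b536b7, 0x54318b6b2, 0x268b36b7, 0x8b5346b7, 0x565b136b2, 0x83b67437, 0x27637b267, 0xb8654131, 0x465b136b2, 0x431b672381, 0x3b653b37, 0x2b653b37, 0x1b672381]), (2, [0x0, 0x15b1, 0x14b1, 0x3b2b8, 0x34, 0xb2b83, 0x1654b1, 0x32b1, 0x16b1, 0x6b2b8, 0x43, 0x314b13, 0x3615b1, 0x1656b1, 0x356b2b8, 0x1456b1, 0x3776b1, 0x256b14, 0x3543, 0x264b13, 0x56b2b83, 0x318476b1, 0x651456b1, 0x456b2b8, 0x3516b1, 0x6543, 0x3516b143, 0x431656b1, 0x343516b1, 0x346256b1, 0x34356b2b8, 0x1456b134, 0x343516b143, 0x1456b143, 0x3456b2b83, 0x314b6b18b, 0x2b6b18b, 0x86b2b67, 0x86b1b67, 0x311b65b42, 0x84b76b18b, 0x43763b368, 0x763b368, 0x386b4b67, 0x315b6b18b, 0x736b63723, 0xb65b76868, 0x3486b2b67, 0x186b3b267, 0xb68676723, 0x4763b68131, 0x27623b368, 0x18643b368, 0x6514b16543,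 0xb2b836543, 0x54386b4b67, 0x354386b2b67, 0x31836b638, 0x15b16543, 0x14b16543]), (3, [0x0, 0x45, 0x54, 0x4381b473, 0x4654, 0x65, 0x46, 0x2383b1b38, 0x56, 0x5654, 0x4565, 0x5645, 0x372b473, 0x465645, 0x4564, 0x56372b473, 0xb6b52b6b, 0xb65b8486b, 0x54b6b52b6b, 0x372b47364, 0x381b183654, 0x65381b1836, 0x65b65b8486b, 0x56372b47346, 0x4384b183654, 0x381b183645, 0x372b47365, 0x4384b1836, 0x381b1836, 0x56381b1836, 0x65372b47365, 0x654384b1836]), (4, [0x0, 0x767686b276b, 0x56b6b52b6b56])]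

theorem chain : chainB M83K100.P (M83K100.lets) ls [] = true := by decide +kernel

end Cfsg.Agent.CosetEnum.M83K100C
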