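import Cfsg.Agent.CosetEnum.M83.K10Data

/-! Certificate of a coset enumeration (generated data, owner: helper28). -/

set_option autoImplicit false
set_option maxRecDepth 1000000

namespace Cfsg.Agent.CosetEnum.M83K10

def ck0 : CK := .cons 32 18 0x20090088044008403202100c80040620010048064013520006b400201100c802400240120090108084032029a90000ea00910e0005d402221c000b68026a4000b680001004808401200900480640220110088026a40009a8064002001000900480240120000000400202900010048064022029014d480004500096600019a0002cc0003140135200031400200100090048024012009000100080040420210088064032019004c3800075008c380006d004d480006d00002009004802401200900080440220110088026a40001e800400200100480240120090048000800400200100080040080040020010008004 ( .cons 32 17 0x407201100042009660006ea0000598001b68024052029018d480036d000800400c4012009000900c80c405201900c800c8026a4001a2804400202100c8084002401202100c80088044032f00008f4022001004c38001ed004d480030d00880a4042019004801c802400040084000080000000c40620210108086a4000668004b30002c500016600057a00900c80a4062041a900057a00100080048064012039004800080040520210001000800402201900c80840130e0008f4022001780003da009a900046a000c4000480001001100052000a40720013520007b40014808401200901c8 ( .cons 32 19 0x1880c4002400008008815200155403200000a9000a8a000c40620210048004d4800175004806400a4062041210007ea01100080048025e00026a8026a4002968003900480e401200900480040120110088044022000640120290188104063520013540000802404200901c802404201100880840000003102a40022e80640020010009004802401200100080021014808407202900010148064042029014d480013d00012cc000fd40000b30003ed014d48003ed000804400c400240000020032021001900012009020d480039d00c80148004801c8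 ( .cons 32 12 0xa900047a041002900002000fc8062001204380068d0048020d480068d0048003100210009004804402201133000d0a019014bc00067d00079401900880021004800010000000040520000000480048105980031e80440004012cc0018d6a40031a8004002006200900012019004800191520007d400a4052031120007ea011000800480240130e001356a4003028064002029001900480e4000401203100880108064012cc001774002001004b30005d50048064052041a9000baa011000800c806400e4012000203900080a4032021010800c8086a4000da80261c001d28044cc000d6d4800585 ( .cons 32 18 0x11000c44001888032000311000622000c44004202901080088004fa00210009f4000201900310188000808400061c001628004da00042001368012cc001a1404200152001a14002000265000099402100480e400000040220012011000148800008064022039000a44009000aa8006854400052a001288001880009000088001a14002001004800492002900092400124801200052a001208001480c400a400048004012000048004aa0008e40011c80023900047200c8004720188004725500058a001189540015e8024840014a8004520008000c940310001928002400201901880088044000652000ca40019480720019480320019480032900e40120314400090a0010c8004400219008403200101c800c806400200901880840420042011008800406201901080640130e0012140020900040220190108000cc4039004800672000ce40019c800339008403202901c800672 ( .cons 32 9 0x987000cfa0017e8002011018802400009000044042019005480034d066000dd4002ed0330006db0e000cf4002e5000310148000085540019e8005aa000b640016c80420002d900048005b20005200320210039014d48003151200074a00162884001a28900033d000af4000019000ae40015c800057200015c80320015c8002b90005c2000b84001708002e100c404201901e0001d280055a7800073b0e000d34002a543800345a900058af0000b14002994380036d0cc000ad400000200520410048004042019018804400200721e00019e80050a000030d00640030d0000c34009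 ( .cons 25 7 0x6200000000000000620002009000000000420001080c4002000200100480a40044000000000000090003d5000120008ea05480066d000cf40055000c9a021008908003d50041780008aa00196800009000665021c0032ad48003a5066000fd40031d0330007da66000f340031500048002da80039a90006eaaa000dd4003052a80036d ( .nil )))))))

theorem part0 : chunks P L 217 ck0 0 100 = true := by decide +kernel

end Cfsg.Agent.CosetEnum.M83K10
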