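import Cfsg.Agent.CosetEnum.Basic

/-! Certificate of a coset enumeration (generated data, owner: helper28). -/

set_option autoImplicit false
set_option maxRecDepth 1000000

namespace Cfsg.Agent.CosetEnum.M83K6

noncomputable def tab : T := .l 0 0x14000050000130000500001200005000015000050000110000500000000004fffffffffff000014000060000130000600001200006000015000060000000000400001100006fffffffffff00000f0000400000e0000400001000004000000000030000000000600000000005fffffffffff00000c0000300000d00003000000000020000000000400000b0000300000b00003fffffffffff00000a000020000000000100000000003000009000020000080000200000800002fffffffffff000000000000000000000200000700001000006000010000050000100000500001fffffffffff000000000010000040000000000300000000002000000000010000000000100000fffffffffff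

def lw : WT := .e

def L : LL := .cons 1 2 (.n 2 (.n 1 (.l [6,2,6] []) (.l [5,2,5] [])) (.n 3 (.l [4,2,4] []) (.l [2,2] []))) (.l [] []) ( .cons 2 1 (.n 1 (.l [6,1,6] []) (.n 2 (.l [5,1,5] []) (.l [4,1,4] []))) (.l [] []) ( .cons 3 3 (.n 1 (.l [6,3,6] []) (.n 2 (.l [5,3,5] []) (.l [2,3,2,3,2] []))) (.l [] []) ( .cons 4 4 (.n 1 (.l [6,4,6] []) (.n 2 (.l [3,4,3,4,3] []) (.l [2,4,2] []))) (.l [] []) ( .cons 5 5 (.n 1 (.l [4,5,4,5,4] []) (.n 2 (.l [3,5,3] []) (.l [2,5,2] []))) (.l [] []) ( .cons 6 6 (.n 2 (.n 1 (.l [5,6,5,6,5] []) (.l [4,6,4] [])) (.n 3 (.l [3,6,3] []) (.l [2,6,2] []))) (.e) ( .nil ))))))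

def iv : List (Nat × Nat) := [(1, 2)]

def RL : List (List Nat × Nat) := [([1, 1, 1], 1), ([1, 3], 3), ([1, 4], 2), ([1, 5], 2), ([1, 6], 2), ([3, 4], 3), ([3, 5], 2), ([3, 6], 2), ([4, 5], 3), ([4, 6], 2), ([5, 6], 3)]

def subs : List (List Nat) := [[1], [3], [4], [5]]

noncomputable def P : Par := ⟨tab, 308, 521481209941628438084722096232800809229175908778479680162851955034721612739414196782949728255, 7, icG 6 iv, lw⟩

end Cfsg.Agent.CosetEnum.M83K6
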