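import Cfsg.Agent.CosetEnum.Basic

/-! Certificate of a coset enumeration (generated data, owner: helper28). -/

set_option autoImplicit false
set_option maxRecDepth 1000000

namespace Cfsg.Agent.CosetEnum.M83K8

noncomputable def tab : T := .l 0 0x360000f0000370000f0000370000f0000330000f0000350000f000000000080000340000f0000340000ffffffffffff0000260000e0000220000bfffffffffff0000240000b000000000060000230000bfffffffffff0000210000b00002b0000d0000320000d0000310000b000020000090000300000b0000000000500002f0000b00001f0000800002e0000bfffffffffffffffffffffffffffffffff00001b0000600000000004ffffffffffffffffffffffffffffffffffffffffffff00002d0000200001e0000a00001c000040000220000e0000240000e000000000040000230000e0000210000e00002700008fffffffffff00001e0000b0000250000e00001d00004fffffffffffffffffffffffffffffffff00001900006000000000040000280000900002c0000b0000200000d000018000070000000000300001700008000016000090000150000500001400007fffffffffff00001200003000011000030000000000200001300008000017000090000000000f0000270000b00001f0000dffffffffffffffffffff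ff00001800009fffffffffff00000000002ffffffffffffffffffffff00001400009fffffffffff00002900004fffffffffff00001b0000cffffffffffffffffffffff0000000000e0000000000200000f000040000190000a00002a0000500000e0000200000c0000200000d00003000000000010000000000d00001a0000c0000100000700001500009fffffffffff00000b0000400001d0000a00001c0000b0000000000c0000000000b000000000010000000000a00000f00006fffffffffff0000120000800000d0000500001100008000000000090000090000300000a000030000080000200000000001fffffffffff00000e000050000000000800000c000050000000000700000700001000000000060000000000100000800003fffffffffff0000000000000000600001000006000010000000000500000700002000000000040000000000300000000002fffffffffff0000000000100000500000000005000000000040000000000300000000002000000000010000000000100000fffffffffff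

def lw : WT := .l [1,4,1,4] []

def L : LL := .cons 1 2 (.n 2 (.n 1 (.l [2,2] []) (.l [3,2,3,2,3] [])) (.n 3 (.l [5,2,5] []) (.l [4,2,4] []))) (.l [] []) ( .cons 2 1 (.n 2 (.n 1 (.l [5,1,5] []) (.l [8,2,3,1,8,2,3] [])) (.n 3 (.l [4,1,4] []) (.l [3,1,3,1,3] []))) (.l [] []) ( .cons 3 3 (.n 1 (.l [1,8,2,3,1,8,2] []) (.n 2 (.l [5,3,5] []) (.l [4,3,4,3,4] []))) (.l [] []) ( .cons 4 4 (.n 1 (.l [7,7,1] []) (.n 2 (.l [2,4,2] []) (.l [3,4,3,4,3] []))) (.l [] []) ( .cons 5 5 (.n 1 (.l [7,4,6] []) (.l [3,5,3] [])) (.l [] []) ( .cons 6 7 (.n 3 (.n 1 (.l [8,7,8] []) (.n 2 (.l [4,6,5] []) (.l [1,4,7] []))) (.n 4 (.l [5,6,2,4] []) (.n 5 (.l [7,1,4] []) (.l [3,6,3,1,4,3] [])))) (.l [] []) ( .cons 7 6 (.n 3 (.n 1 (.l [8,6,8] []) (.n 2 (.l [4,2,6] []) (.l [6,4,2] []))) (.n 4 (.l [3,1,4,3,7,3] []) (.n 5 (.l [5,7,4] []) (.l [2,4,7,5] [])))) (.l [] []) ( .cons 8 8 (.n 2 (.n 1 (.l [6,5,8,6,5,8,6,5] []) (.l [7,8,7] [])) (.n 3 (.l [3,8,3,8,3] []) (.l [6,8,6] []))) (.e) ( .nil ))))))))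

def iv : List (Nat × Nat) := [(1, 2), (6, 7)]

def RL : List (List Nat × Nat) := [([1, 1, 1], 1), ([1, 3], 3), ([1, 4], 2), ([1, 5], 2), ([3, 4], 3), ([3, 5], 2), ([4, 5], 3), ([7, 1, 6, 5, 4, 2], 1), ([7, 3, 6, 3, 4, 2, 3], 1), ([7, 4, 6, 5], 1), ([7, 5, 6, 4, 1], 1), ([6, 6, 4, 2], 1), ([8, 6], 2), ([8, 3], 3), ([8, 2, 3, 1], 2), ([8, 5, 7], 3)]

def subs : List (List Nat) := [[1], [3], [4], [5], [6]]

noncomputable def P : Par := ⟨tab, 396, 161390617380431786853494948250188242145606612051826469551916209783790476376052574664352834580008614464743948248296718335, 16, icG 8 iv, lw⟩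

end Cfsg.Agent.CosetEnum.M83K8
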