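import Cfsg.Agent.CosetEnum.Basic

/-! Certificate of a coset enumeration (generated data, owner: helper28). -/

set_option autoImplicit false
set_option maxRecDepth 1000000

namespace Cfsg.Agent.CosetEnum.M83S4

noncomputable def tab : T := .l 0 0x2f000033000300000340003200003500031fffffffffff0000000002c0000310002d0000320002e00003400033fffffffffff0000000002900002f0002a000035000330000300002bfffffffffff000000000280000330003300002d0002d00002e0002afffffffffff000000000330000000002800002b0002c00002c00029fffffffffff000000000250000290002600002a0002700003200032fffffffffff00000000024000031000320000280002600002d00030fffffffffff00000000032000000000240000270002500002b0002ffffffffffff00000000021000025000220000300003100002600023fffffffffff0000000002000002f0003100002e0003000002400022fffffffffff000000000310000000002000002c0002f00002300021fffffffffff000000000300000000002f0000220002400000000020fffffffffff0000000001d0000200001e0000210001f00002a0002efffffffffff0000000001c0000290002e00001f0001e0000280002dfffffffffff0000000002e0000000001c00001e0001d0000270002cfffffffffff0000000002d0000000002c0000000001c00002200028fffffffffff0000000001900001c0001a0000260002b00001d0001bfffffffffff000000000180000250002b0000240002a00001b0001afffffffffff0000000002b000000000180000230002900001a00019fffffffffff000000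0002a000000000290000000002800000000018fffffffffff00000000015000018000160000190001700002100027fffffffffff00000000014000020000270000170001600001f00026fffffffffff00000000027000000000140000160001500001e00025fffffffffff00000000026000000000250000000001400000000024fffffffffff000000000110000140001200001d0002300001500013fffffffffff0000000001000001c0002300001b0002200001300012fffffffffff000000000230000000001000001a0002100001200011fffffffffff00000000022000000000210000000002000000000010fffffffffff0000000000d0000100000e0000110000f0000190001ffffffffffff0000000000c0000180001f00000f0000e0000170001efffffffffff0000000001f0000000000c00000e0000d0000160001dfffffffffff0000000001e0000000001d0000000000c0000000001cfffffffffff0000000000900000c0000a0000150001b00000d0000bfffffffffff000000000080000140001b0000130001a00000b0000afffffffffff0000000001b000000000080000120001900000a00009fffffffffff0000000001a000000000190000000001800000000008fffffffffff00000000006000008000070000090000b00001100017fffffffffff00000000005000010000170000070000700000f00016fffffffffff00000000017000000000050000060000600000e00015fffffffffff00000000016000000000150000000000500000000014fffffffffff000000000030000050000400000d000130000090000ffffffffffff0000000000200000c0001300000b0001200000400004fffffffffff000000000130000000000200000a0001100000300003fffffffffff00000000012000000000110000000001000000000002fffffffffff000000000010000080000f000002000040000070000efffffffffff0000000000f00000000001000001000030000060000dfffffffffff0000000000e0000000000d000000000010000000000cfffffffffff000000000000000050000b0000040000a00000200007fffffffffff0000000000b000000000000000030000900000100006fffffffffff0000000000a000000000090000000000800000000000fffffffffff00000000007000000000060000000000000000000005fffffffffff00000000004000000000030000000000200000000001fffffffffff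

def lw : WT := .e

def L : LL := .cons 1 2 (.n 1 (.l [3,1,3] []) (.n 2 (.l [4,1,4] []) (.l [2,2,2,2,2,2,2,2,2,2,2,2] []))) (.e) ( .cons 2 1 (.n 1 (.l [3,2,3] []) (.l [4,2,4] [])) (.e) ( .cons 3 3 (.l [4,3,4] []) (.e) ( .cons 4 4 (.e) (.e) ( .nil ))))

def iv : List (Nat × Nat) := [(1, 2)]

def RL : List (List Nat × Nat) := [([3, 4, 3, 4], 1), ([1], 13), ([1, 3, 2, 3], 1), ([1, 4, 2, 4], 1)]

def subs : List (List Nat) := []

noncomputable def P : Par := ⟨tab, 220, 1684996666696914987166688442938726917102321526408785780068975640575, 52, icG 4 iv, lw⟩

end Cfsg.Agent.CosetEnum.M83S4
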