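import Cfsg.Agent.CosetEnum.M83.SData

/-! Certificate of a coset enumeration (generated data, owner: helper28). -/

set_option autoImplicit false
set_option maxRecDepth 1000000

namespace Cfsg.Agent.CosetEnum.M83S

def ck9 : CK := .cons 32 0 0xaa064134880c79a82203c77a44070a543301d5e506606aeb405237811bea877031e1a0440d5d680640de046f7a03b818f05044063c1407703a9fa03301abad0088de046f2a039001977031dca021000866031e0acc0832742201912d0cc072c342a81a47500cc0e586f6818ea500880c75280cc063a5402237811b9eb302370504406c39401237811b9282203219a019030b3018e6d01088818e6d ( .cons 32 0 0x19811c7a83303e17aee0640b4cc0c8168003d2220640b5dc0c80a87703832a0411bc08e315980c7fe81103832a1540c8be806405503225acc063e94022033018f9d77031f2aaa06c3943302019d5503218a1540c85e801980c7c280aa0642b42a8190a5010b3018f6d0ee0806743b818f850ee063d9408237811c128ed034fda8806417419818f4d ( .cons 32 0 0x770321ea0330190e500880cc064375dc0c86a910190d56603219aaa064334cc0c86686603218a1980c85e8ed0455aa01900330190ad0880642b4004406431401237811ccaa20192c506607e9b43b8190dd01086603211a1dc0c866802207e9b40145dc0c8569981906dde03dd8a1dc0c82aaa8190551da0640f5540c81e9101904d2203208aee087eb40881f085 ( .cons 32 4 0x802401200900880a400001000100090088044022019000000064002009004802402200014800002405201900c810406200520000883303d08a0440c92681da07bc743301a75d00881bc08eb1400ee067f543b81920d3303241a0088191dd1bc08c49401103241a019037811d46833034d1a029037811d3ebb8191b56604689a110119b684403233a0311bc08e954880c8be910191850198116daa201a47544040abacc064555100c89e80660644b405206f023a0d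 ( .cons 32 32 0x4804402201100c800000062005201900c810406200720010400008024012009008801c8064000402200100010048024012011014800000002009004802402202901080640000004012009004804400a4000012000a403201902080c40620290088064004400240220110088064062039000820012009000802401200900880a401201100c8004000400040120090048044000c80a40024004405201900c8104062009001100c8008800480a403201902080c4052039000820390019010808404205101080000009008804402201901480840001100190008024012009008801080001200620042021010814404200000024022011008806405202100000190008024012009008801480000088010808404205101080000011002900c8064082031000220004400240620290148064052029014800022000a403201902080c4062039000120390009008804402201901480e400008004802400200900480240220052000001018802481240920490008001900000080240120090088000000220290148064032041018802405201100c80088004804402201100c8000000024812409204900080000240004804402201100c8014804403200024022005201900c810406200720001c8002101080840a20210000a40 ( .cons 16 16 0x4804402201100c80c4000002400040120090048044052002201900002001202900c80640820310148000044022005201900c8104062031000008800080240120090088000000024022011008806400000440004804402201100c80c407200024002401203101480a4032029004800880640044002402201100880640620290000048024002009004802402202901480000040004012009004804400a4000002031002900c80640820310000000040120090048044000000002009004802402200000004000401200900480440084022029014800002009004802402200000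 ( .nil ))))))

theorem part9 : chunks P L 18320 ck9 18144 52 = true := by decide +kernel

end Cfsg.Agent.CosetEnum.M83S
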